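import Groth.Prelude.Def_K0Var
import Mathlib.AlgebraicGeometry.Morphisms.QuasiSeparated
import Mathlib.AlgebraicGeometry.IdealSheaf.Subscheme
import Mathlib.AlgebraicGeometry.Noetherian

/-!
The class of a Zariski locally trivial fibration in the Grothendieck ring of varieties.
-/

set_option autoImplicit false
set_option linter.style.haveILetI false
set_option maxHeartbeats 400000

universe u

open CategoryTheory CategoryTheory.Limits AlgebraicGeometry

namespace Groth.Agent.K0V5

variable {k : Type u} [Field k] {X Y F : Scheme.{u}}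
  (pY : Y ⟶ Spec (CommRingCat.of k)) (pF : F ⟶ Spec (CommRingCat.of k)) (f : X ⟶ Y)

/-- a piece of the base over which the fibration is trivial. -/
theorem cl_trivial_piece [LocallyOfFiniteType pY] [QuasiCompact pY] [LocallyOfFiniteType pF]
    [QuasiCompact pF] [LocallyOfFiniteType f] [QuasiCompact f]
    (U : Y.Opens) (e : (f ⁻¹ᵁ U).toScheme ≅ pullback (U.ι ≫ pY) pF)
    (he : e.hom ≫ pullback.fst (U.ι ≫ pY) pF = f ∣_ U)
    {Z : Scheme.{u}} (z : Z ⟶ Y) [LocallyOfFiniteType z] [QuasiCompact z] (z₀ : Z ⟶ U.toScheme)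
    (hz : z₀ ≫ U.ι = z) :
    K0Var.cl (pullback.fst z f ≫ z ≫ pY) = K0Var.cl (z ≫ pY) * K0Var.cl pF := by
  have sq1 : IsPullback (e.hom ≫ pullback.snd (U.ι ≫ pY) pF) (f ∣_ U) pF (U.ι ≫ pY) :=
    (IsPullback.of_hasPullback (U.ι ≫ pY) pF).flip.of_iso e.symm (Iso.refl _) (Iso.refl _) (Iso.refl _)
      (by simp) (by simp [← he]) (by simp) (by simp)
  let r : pullback z f ⟶ (f ⁻¹ᵁ U).toScheme :=
    IsOpenImmersion.lift (f ⁻¹ᵁ U).ι (pullback.snd z f) (by
      rintro _ ⟨w, rfl⟩
      rw [Scheme.Opens.range_ι]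
      show f (pullback.snd z f w) ∈ U
      have hc : pullback.snd z f ≫ f = (pullback.fst z f ≫ z₀) ≫ U.ι := by
        rw [← pullback.condition, Category.assoc, hz]
      rw [← Scheme.Hom.comp_apply, hc, Scheme.Hom.comp_apply]
      exact (Subtype.mem ((pullback.fst z f ≫ z₀) w) :))
  have hr : r ≫ (f ⁻¹ᵁ U).ι = pullback.snd z f := IsOpenImmersion.lift_fac _ _ _
  have sq2 : IsPullback r (pullback.fst z f) (f ∣_ U) z₀ := by
    refine IsPullback.of_right ?_ ?_ (isPullback_morphismRestrict f U).flip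
    · rw [hr, hz]; exact (IsPullback.of_hasPullback z f).flip
    · rw [← cancel_mono U.ι, Category.assoc, Category.assoc, hz, morphismRestrict_ι, ← Category.assoc, hr,
        pullback.condition]
  have sq3 : IsPullback (r ≫ e.hom ≫ pullback.snd (U.ι ≫ pY) pF) (pullback.fst z f) pF (z ≫ pY) := by
    have := sq2.paste_horiz sq1
    rwa [← Category.assoc z₀, hz] at this
  rw [← K0Var.cl_mul (z ≫ pY) pF]
  exact K0Var.cl_congr _ _ sq3.flip.isoPullback
    (by rw [IsPullback.isoPullback_hom_fst_assoc])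

/-- **Locally trivial fibrations multiply.** -/
theorem cl_fibration [LocallyOfFiniteType pY] [QuasiCompact pY] [LocallyOfFiniteType pF]
    [QuasiCompact pF] [LocallyOfFiniteType f] [QuasiCompact f]
    (hf : ∀ y : Y, ∃ (U : Y.Opens) (e : (f ⁻¹ᵁ U).toScheme ≅ pullback (U.ι ≫ pY) pF),
      y ∈ U ∧ e.hom ≫ pullback.fst (U.ι ≫ pY) pF = f ∣_ U) :
    K0Var.cl (f ≫ pY) = K0Var.cl pY * K0Var.cl pF := by
  classical
  haveI : IsLocallyNoetherian Y := LocallyOfFiniteType.isLocallyNoetherian pY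
  haveI : CompactSpace Y := QuasiCompact.compactSpace_of_compactSpace pY
  haveI : IsNoetherian Y := {}
  choose U e hy he using hf
  have key : ∀ s : Finset Y,
      K0Var.cl (pullback.fst (s.sup U).ι f ≫ (s.sup U).ι ≫ pY) = K0Var.cl ((s.sup U).ι ≫ pY) * K0Var.cl pF := by
    intro s
    induction s using Finset.induction with
    | empty =>
      haveI : IsEmpty ((∅ : Finset Y).sup U).toScheme := ⟨fun x => by
        exact ((Finset.sup_empty (f := U)).le x.2 : False)⟩
      haveI : IsEmpty ↥(pullback ((∅ : Finset Y).sup U).ι f) :=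
        Function.isEmpty (pullback.fst ((∅ : Finset Y).sup U).ι f : _ → _)
      rw [K0Var.cl_eq_gen_cl, K0Var.cl_eq_gen_cl]
      rw [K0Var.Gen.cl_eq_zero_of_isEmpty, K0Var.Gen.cl_eq_zero_of_isEmpty, zero_mul]
    | insert a t hat ih =>
      let W := t.sup U
      let W' := (insert a t).sup U
      have hWW' : W ≤ W' := Finset.sup_mono (Finset.subset_insert a t)
      let C : TopologicalSpace.Closeds W'.toScheme :=
        ⟨((W'.ι ⁻¹ᵁ W : W'.toScheme.Opens) : Set W'.toScheme)ᶜ, (W'.ι ⁻¹ᵁ W).isOpen.isClosed_compl⟩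
      let J := Scheme.IdealSheafData.vanishingIdeal C
      let i : J.subscheme ⟶ W'.toScheme := J.subschemeι
      let j : W.toScheme ⟶ W'.toScheme := Y.homOfLE hWW'
      have hj : j ≫ W'.ι = W.ι := Y.homOfLE_ι hWW'
      have hrange : Set.range i = (Set.range j)ᶜ := by
        rw [show Set.range i = (J.support : Set W'.toScheme) from Scheme.IdealSheafData.range_subschemeι J,
          Scheme.IdealSheafData.coe_support_vanishingIdeal]
        show (((W'.ι ⁻¹ᵁ W : W'.toScheme.Opens) : Set W'.toScheme))ᶜ = _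
        congr 1
        ext x
        constructor
        · intro hx
          refine ⟨⟨x.1, hx⟩, ?_⟩
          apply Subtype.ext
          exact Scheme.homOfLE_apply hWW' ⟨x.1, hx⟩
        · rintro ⟨w, rfl⟩
          show W'.ι (j w) ∈ W
          rw [← Scheme.Hom.comp_apply, hj]
          exact w.2
      let jX := pullback.map W.ι f W'.ι f j (𝟙 X) (𝟙 Y) (by simp [hj]) (by simp)
      let iX := pullback.map (i ≫ W'.ι) f W'.ι f i (𝟙 X) (𝟙 Y) (by simp) (by simp)
      haveI : IsOpenImmersion jX :=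
        MorphismProperty.pullbackMap (P := @IsOpenImmersion) inferInstance inferInstance (by simp [hj]) (by simp)
      haveI : IsClosedImmersion iX :=
        MorphismProperty.pullbackMap (P := @IsClosedImmersion) inferInstance inferInstance (by simp) (by simp)
      have hrangeX : Set.range iX = (Set.range jX)ᶜ := by
        simp only [iX, jX]
        erw [Scheme.Pullback.range_map, Scheme.Pullback.range_map]
        rw [hrange]
        simp
      haveI : IsLocallyNoetherian W'.toScheme := inferInstance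
      have h1 : K0Var.cl (W'.ι ≫ pY) = K0Var.cl ((i ≫ W'.ι) ≫ pY) + K0Var.cl (W.ι ≫ pY) := by
        rw [K0Var.cl_scissor (W'.ι ≫ pY) i j hrange]
        congr 1
        exact K0Var.cl_congr _ _ (Iso.refl _) (by simp [← hj])
      have h2 : K0Var.cl (pullback.fst W'.ι f ≫ W'.ι ≫ pY) =
          K0Var.cl (pullback.fst (i ≫ W'.ι) f ≫ (i ≫ W'.ι) ≫ pY) +
            K0Var.cl (pullback.fst W.ι f ≫ W.ι ≫ pY) := by
        haveI : IsLocallyNoetherian (pullback W'.ι f : Scheme.{u}) :=
          LocallyOfFiniteType.isLocallyNoetherian (pullback.fst W'.ι f ≫ W'.ι ≫ pY)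
        rw [K0Var.cl_scissor (pullback.fst W'.ι f ≫ W'.ι ≫ pY) iX jX hrangeX]
        congr 1
        · exact K0Var.cl_congr _ _ (Iso.refl _) (by simp [iX, pullback.map]; erw [pullback.lift_fst_assoc]; simp)
        · exact K0Var.cl_congr _ _ (Iso.refl _) (by simp [jX, pullback.map, ← hj]; erw [pullback.lift_fst_assoc]; simp)
      let z₀ : J.subscheme ⟶ (U a).toScheme := IsOpenImmersion.lift (U a).ι (i ≫ W'.ι) (by
        rintro _ ⟨w, rfl⟩
        rw [Scheme.Opens.range_ι]
        have hw : i w ∈ (Set.range j)ᶜ := hrange ▸ Set.mem_range_self w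
        have hmem : W'.ι (i w) ∈ (insert a t).sup U := (i w).2
        rw [Finset.sup_insert] at hmem
        rcases (TopologicalSpace.Opens.mem_sup.1 hmem) with h | h
        · simpa [Scheme.Hom.comp_apply] using h
        · exact absurd ⟨⟨_, h⟩, Subtype.ext (Scheme.homOfLE_apply hWW' ⟨_, h⟩)⟩ hw)
      rw [h2, h1, cl_trivial_piece pY pF f (U a) (e a) (he a) (i ≫ W'.ι) z₀ (IsOpenImmersion.lift_fac _ _ _),
        ih, add_mul]
  obtain ⟨s, hs⟩ := isCompact_univ.elim_finite_subcover (fun y : Y => ((U y : Y.Opens) : Set Y))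
    (fun y => (U y).isOpen) (fun y _ => Set.mem_iUnion.2 ⟨y, hy y⟩)
  have htop : s.sup U = ⊤ := by
    refine eq_top_iff.2 fun y _ => ?_
    obtain ⟨i, hi⟩ := Set.mem_iUnion.1 (hs (Set.mem_univ y))
    obtain ⟨hi', hy'⟩ := Set.mem_iUnion.1 hi
    exact Finset.le_sup (f := U) hi' hy'
  have h := key s
  rw [htop] at h
  haveI : IsIso (⊤ : Y.Opens).ι := Y.topIso.isIso_hom
  haveI : IsIso (pullback.snd (⊤ : Y.Opens).ι f) := inferInstance
  rw [K0Var.cl_congr ((⊤ : Y.Opens).ι ≫ pY) pY Y.topIso (by simp),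
    K0Var.cl_congr (pullback.fst (⊤ : Y.Opens).ι f ≫ (⊤ : Y.Opens).ι ≫ pY) (f ≫ pY)
      (asIso (pullback.snd (⊤ : Y.Opens).ι f)) (by simp [pullback.condition_assoc])] at h
  exact h

end Groth.Agent.K0V5
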